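import Groth.Agent.H23Norm.Exists
import Groth.Agent.H1DFun.PushClass
import Groth.Prelude.Def_Mor2
import Groth.Prelude.Def_Dix

/-!
The transfer for the cohomological Brauer group along finite locally free morphisms.
-/

set_option autoImplicit false
set_option linter.style.haveILetI false
set_option backward.isDefEq.respectTransparency false
set_option backward.isDefEq.respectTransparency.types false

universe u

open CategoryTheory CategoryTheory.Limits AlgebraicGeometry Opposite Abelian

namespace Groth.Agent.H18BrTr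

open H23Norm (P q norm Fr IsNm)

attribute [local instance] Groth.Agent.H18Et.pull_preservesFiniteLimits

variable {X Y : Scheme.{u}} (f : X ⟶ Y) [IsFinite f] [Flat f] [LocallyOfFinitePresentation f]

theorem finrank_free {d : ℕ} (hd : ∀ y : Y, f.finrank y = d) {W : Over Y} (hW : Fr f W) (w : W.left) :
    @Module.finrank Γ(W.left, ⊤) Γ((P f W).left, ⊤) _ _ (q f W).appTop.hom.toAlgebra.toModule = d := by
  haveI := hW.1
  haveI : IsAffine (P f W).left := isAffine_of_isAffineHom (q f W)
  letI := (q f W).appTop.hom.toAlgebra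
  haveI : Module.Finite Γ(W.left, ⊤) Γ((P f W).left, ⊤) := hW.2.1
  haveI : Module.Free Γ(W.left, ⊤) Γ((P f W).left, ⊤) := hW.2.2
  haveI : Flat (q f W) := MorphismProperty.pullback_fst _ _ inferInstance
  haveI : IsFinite (q f W) := MorphismProperty.pullback_fst _ _ inferInstance
  haveI : Nontrivial Γ(W.left, ⊤) := (W.left.isoSpec.hom w).nontrivial
  have hsq : IsPullback (P f W).left.isoSpec.hom (q f W) (Spec.map (q f W).appTop) W.left.isoSpec.hom :=
    IsPullback.of_horiz_isIso ⟨Scheme.isoSpec_hom_naturality _⟩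
  have hΓ : (q f W).appTop = CommRingCat.ofHom (algebraMap Γ(W.left, ⊤) Γ((P f W).left, ⊤)) := rfl
  rw [hΓ] at hsq
  haveI : IsFinite (Spec.map (CommRingCat.ofHom (algebraMap Γ(W.left, ⊤) Γ((P f W).left, ⊤)))) :=
    (IsFinite.SpecMap_iff _).2 (RingHom.finite_algebraMap.2 inferInstance)
  haveI : Flat (Spec.map (CommRingCat.ofHom (algebraMap Γ(W.left, ⊤) Γ((P f W).left, ⊤)))) :=
    Flat.SpecMap_iff.2 (RingHom.flat_algebraMap_iff.2 inferInstance)
  have h1 := Scheme.Hom.finrank_of_isPullback _ _ _ _ hsq w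
  rw [Scheme.Hom.finrank_pullback_fst, hd, Scheme.Hom.finrank_SpecMap_algebraMap,
    Module.rankAtStalk_eq_finrank_of_free] at h1
  exact h1.symm

/-- The norm of a function from the base is a power. -/
theorem norm_pullback {d : ℕ} (hd : ∀ y : Y, f.finrank y = d) (T : Over Y) (s : Γ(T.left, ⊤)) :
    norm f T ((q f T).appTop s) = s ^ d := by
  refine H23Norm.isNm_unique f (H23Norm.isNm_norm f T _) fun W π hW => ?_
  rcases isEmpty_or_nonempty W.left with hE | ⟨⟨w⟩⟩
  · haveI : Subsingleton Γ(W.left, ⊤) := inferInstance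
    exact Subsingleton.elim _ _
  letI := (q f W).appTop.hom.toAlgebra
  haveI : Module.Finite Γ(W.left, ⊤) Γ((P f W).left, ⊤) := hW.2.1
  haveI : Module.Free Γ(W.left, ⊤) Γ((P f W).left, ⊤) := hW.2.2
  have e : ((Over.pullback f).map π).left ≫ q f T = q f W ≫ π.left := by simp [q]
  rw [← ConcreteCategory.comp_apply, ← Scheme.Hom.comp_appTop, e, Scheme.Hom.comp_appTop,
    ConcreteCategory.comp_apply, map_pow]
  exact ((Algebra.norm_algebraMap (π.left.appTop s)).trans (by rw [finrank_free f hd hW w])).symm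

/-- An etale scheme over the base as an object over it. -/
abbrev toOver (U : Y.Etale) : Over Y := Over.mk U.hom

/-- Pullback of units. -/
noncomputable def unitsMap : EtCoh.Gm Y ⟶ (EtCoh.push f).obj (EtCoh.Gm X) :=
  ⟨{ app := fun U => AddCommGrpCat.ofHom (AddMonoidHom.mk'
      (fun x => ULift.up (Additive.ofMul (Units.map (q f (toOver U.unop)).appTop.hom.toMonoidHom
        (Additive.toMul (ULift.down x)))))
      (fun a b => ULift.ext _ _ (congrArg Additive.ofMul (map_mul (Units.map _) _ _))))
     naturality := fun U V h => AddCommGrpCat.ext fun x => ULift.ext _ _ (congrArg Additive.ofMul (Units.ext (by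
       show (q f (toOver V.unop)).appTop (h.unop.left.appTop (Additive.toMul (ULift.down x)).val) =
         ((EtCoh.bc f).map h.unop).left.appTop ((q f (toOver U.unop)).appTop (Additive.toMul (ULift.down x)).val)
       exact congrArg (fun k : _ ⟶ U.unop.left => k.appTop (Additive.toMul (ULift.down x)).val)
         (show q f (toOver V.unop) ≫ h.unop.left = ((EtCoh.bc f).map h.unop).left ≫ q f (toOver U.unop) from
           (pullback.lift_fst _ _ _).symm)))) }⟩

/-- The norm of units. -/
noncomputable def unitsNorm : (EtCoh.push f).obj (EtCoh.Gm X) ⟶ EtCoh.Gm Y :=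
  ⟨{ app := fun U => AddCommGrpCat.ofHom (AddMonoidHom.mk'
      (fun x => ULift.up (Additive.ofMul (Units.map (norm f (toOver U.unop))
        (Additive.toMul (ULift.down x)))))
      (fun a b => ULift.ext _ _ (congrArg Additive.ofMul (map_mul (Units.map _) _ _))))
     naturality := fun U V h => AddCommGrpCat.ext fun x => ULift.ext _ _ (congrArg Additive.ofMul (Units.ext (by
       let h' : toOver V.unop ⟶ toOver U.unop := Over.homMk h.unop.left (MorphismProperty.Over.w h.unop)
       refine Eq.trans ?_ (H23Norm.norm_map f h' (Additive.toMul (ULift.down x)).val)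
       show norm f (toOver V.unop) (((EtCoh.bc f).map h.unop).left.appTop (Additive.toMul (ULift.down x)).val) = _
       refine congrArg (fun k : _ ⟶ (P f (toOver U.unop)).left =>
         norm f (toOver V.unop) (k.appTop (Additive.toMul (ULift.down x)).val)) ?_
       refine pullback.hom_ext ?_ ?_
       · exact (pullback.lift_fst _ _ _).trans (pullback.lift_fst _ _ _).symm
       · exact (pullback.lift_snd _ _ _).trans (pullback.lift_snd _ _ _).symm))) }⟩

theorem unitsMap_norm {d : ℕ} (hd : ∀ y : Y, f.finrank y = d) :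
    unitsMap f ≫ unitsNorm f = EtCoh.powMap Y d := by
  refine Sheaf.hom_ext (NatTrans.ext (funext fun U => AddCommGrpCat.ext fun x => ULift.ext _ _ ?_))
  refine (congrArg Additive.ofMul (Units.ext ?_)).trans (ofMul_pow d _)
  show norm f (toOver U.unop) ((q f (toOver U.unop)).appTop (Additive.toMul (ULift.down x)).val) = _
  rw [norm_pullback f hd, Units.val_pow_eq_pow_val]
  rfl

theorem HF_nsmul (n : ℕ) (d : ℕ) (x : EtCoh.H Y (EtCoh.Gm Y) n) :
    Sheaf.H.map (EtCoh.powMap Y d) n x = d • x := by
  rw [Sheaf.H.map_apply, EtCoh.powMap]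
  induction d with
  | zero => simp
  | succ d ih => rw [succ_nsmul, succ_nsmul, Ext.mk₀_add, Ext.comp_add, ih, Ext.comp_mk₀_id]

/-- A degree `d` finite locally free cover with torsion Brauer group forces torsion below. -/
theorem isAddTorsion_H {d : ℕ} (hd0 : 1 ≤ d) (hd : ∀ y : Y, f.finrank y = d) (n : ℕ)
    (hX : IsAddTorsion (EtCoh.H X (EtCoh.Gm X) n)) : IsAddTorsion (EtCoh.H Y (EtCoh.Gm Y) n) := by
  intro x
  let G := (EtCoh.push f).obj (EtCoh.Gm X)
  have hbij := H1DFun.hpull_map_bijective f (G := G) (H' := EtCoh.Gm X) (𝟙 G) n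
  let T : EtCoh.H Y G n →+ EtCoh.H X (EtCoh.Gm X) n :=
    (Sheaf.H.map ((EtCoh.pull f).map (𝟙 G) ≫ (EtCoh.pullPushAdj f).counit.app (EtCoh.Gm X)) n).comp
      (H1Lim.hpull f G n)
  obtain ⟨m, hm, hm0⟩ := (hX (T (Sheaf.H.map (unitsMap f) n x))).exists_nsmul_eq_zero
  have h0 : m • Sheaf.H.map (unitsMap f) n x = 0 :=
    hbij.1 ((map_nsmul T m _).trans (hm0.trans (map_zero T).symm))
  refine isOfFinAddOrder_iff_nsmul_eq_zero.2 ⟨m * d, Nat.mul_pos hm hd0, ?_⟩
  rw [mul_nsmul', ← HF_nsmul n d, ← unitsMap_norm f hd, H1Lim.H_map_comp₀, ← map_nsmul, h0, map_zero]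

end Groth.Agent.H18BrTr
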